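import Cfsg.Agent.H442.CY.OPlus

/-!
# S4829: the field `oplus` of `RowsAN` (helper442), from the row of `PΩ⁺₈(q)`
-/

set_option autoImplicit false

namespace Cfsg.Agent.H442.CY

open Cfsg Cfsg.Agent.H770.CY Cfsg.Agent.H776.CY Cfsg.Agent.H636.BR

variable {p : ℕ} [hp : Fact p.Prime]

/-- the row of `PΩ⁺₈(q)` -/
def FourRow (p : ℕ) : Prop :=
  ∀ (F : Type) [Field F] [Fintype F] [Fintype (POmega F (quadFormPlus 4 F))] [IsSimpleGroup (POmega F (quadFormPlus 4 F))],
    (p : F) ≠ 0 → ¬ IsMulCommutative (POmega F (quadFormPlus 4 F)) → p ∣ Nat.card (POmega F (quadFormPlus 4 F)) →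
    (∀ P : Sylow p (POmega F (quadFormPlus 4 F)), ¬ IsCyclic P) → RowA p (POmega F (quadFormPlus 4 F))

/-- **the field `oplus`** -/
theorem oplus_of (hp2 : p ≠ 2) (h4 : FourRow p) :
    RowForAN p (fun X _ => ∃ (F : Type) (_ : Field F) (_ : Fintype F) (m : ℕ), (p : F) ≠ 0 ∧
      4 ≤ m ∧ Nonempty (X ≃* POmega F (quadFormPlus m F))) := by
  intro X _ _ _ hna hd hnc hX
  obtain ⟨F, iF, iT, m, hpF, hm, ⟨e⟩⟩ := hX
  have hd' : p ∣ Nat.card (POmega F (quadFormPlus m F)) := by rwa [← Nat.card_congr e.toEquiv]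
  have hnc' := not_cyclic_congr e hnc
  have hna' : ¬ IsMulCommutative (POmega F (quadFormPlus m F)) := by
    intro h
    apply hna
    refine ⟨⟨fun a b => e.injective ?_⟩⟩
    rw [map_mul, map_mul]
    exact h.is_comm.comm _ _
  let _ : Fintype (POmega F (quadFormPlus m F)) := Fintype.ofEquiv X e.toEquiv
  have _ : Nontrivial (POmega F (quadFormPlus m F)) := e.toEquiv.symm.nontrivial
  have _ : IsSimpleGroup (POmega F (quadFormPlus m F)) := IsSimpleGroup.isSimpleGroup_of_surjective e.toMonoidHom e.surjective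
  refine RowA.congr e ?_
  rcases Nat.lt_or_ge m 5 with h5 | h5
  · obtain rfl : m = 4 := by omega
    exact h4 F hpF hna' hd' hnc'
  · exact rowA_oplus_five h5 hp2 hpF hna' hd' hnc'

end Cfsg.Agent.H442.CY
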