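import Cfsg.Agent.H442.CY.Kern
import Cfsg.Agent.H636.BR.Fam

/-!
# S4829: the totally singular subspaces of dimension `m / 2` of a quadric of plus type (helper442)

`Typ Q m 0`, `m = 2 k`.
* `mem_NN` : `E Q` has the same orbits as `O Q` on the pairs `U, W` of totally singular `k`-spaces, but for `U ⊔ W` maximal;
* `swap_E` : `E Q` interchanges any two totally singular `k`-spaces;
* `N_int`, `S_int` : the constituents of the permutation character are integer valued.
-/

set_option autoImplicit false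
set_option linter.unusedSectionVars false

namespace Cfsg.Agent.H442.CY

open Module QuadraticMap Cfsg Cfsg.Agent.H2.Pol Cfsg.Agent.H674.BR Cfsg.Agent.H410.BR Cfsg.Agent.H145.BR Cfsg.Agent.H636.BR
open Cfsg.Agent.Characters Cfsg.Agent.Characters.Core
open Cfsg.Agent.LieClassical Cfsg.Agent.LieClassical.OrthCore Cfsg.Agent.LieClassical.OrthForms
  Cfsg.Agent.LieClassical.OrthTrans Cfsg.Agent.LieClassical.OrthFinite

section Geo

variable {F V : Type*} [Field F] [AddCommGroup V] [Module F V] [FiniteDimensional F V] {Q : QuadraticForm F V}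

/-- if a reflection stabilizes `U` and `U'`, then every isometry is a product of an element of `E Q` and an isometry
stabilizing both -/
theorem mem_NN_of_refl (hG : Good Q) {U U' : Submodule F V} (hU : (quadPol Q).TI U) (hU' : (quadPol Q).TI U') {u : V}
    (hu : Q u ≠ 0) (h1 : U.map (refl Q u hu : V →ₗ[F] V) = U) (h2 : U'.map (refl Q u hu : V →ₗ[F] V) = U')
    {g : V ≃ₗ[F] V} (hg : g ∈ O Q) : g ∈ NN Q U U' := by
  obtain ⟨e, f, hef, hc, hc'⟩ := exists_compat hG.nondeg hG.exists_hyp hU hU'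
  have hq : ∀ α : F, Q (e + α • f) = α := by
    intro α
    rw [Q_add, QuadraticMap.map_smul, polar_smul_right, hef.left, hef.right, hef.pair, smul_zero, smul_eq_mul, mul_one]
    ring
  have hr : refl Q u hu ∈ NN Q U U' := ⟨1, (E Q).one_mem, refl Q u hu, refl_mem_O hu, (one_mul _).symm, h1, h2⟩
  have ha : Q (e + Q u • f) ≠ 0 := by rw [hq]; exact hu
  rw [O_eq_closure hG.nondeg] at hg
  induction hg using Subgroup.closure_induction with
  | mem x hx =>
    rcases hx with ⟨w, hw, rfl⟩ | hx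
    · have hb : Q (e + Q w • f) ≠ 0 := by rw [hq]; exact hw
      obtain ⟨c, d, t1, t2, t3⟩ := torus hef hb ha
      have e1 : refl Q w hw * refl Q _ hb ∈ NN Q U U' := E_le_NN (hG.refl_mul_refl_mem hb hw (hq _))
      have e2 : refl Q _ hb * refl Q _ ha ∈ NN Q U U' :=
        ⟨1, (E Q).one_mem, _, (O Q).mul_mem (refl_mem_O hb) (refl_mem_O ha), (one_mul _).symm,
          map_of_cpt hef hU hc t1 t2 t3, map_of_cpt hef hU' hc' t1 t2 t3⟩
      have e3 : refl Q u hu * refl Q _ ha ∈ NN Q U U' := E_le_NN (hG.refl_mul_refl_mem ha hu (hq _))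
      have e4 : refl Q w hw = (refl Q w hw * refl Q _ hb) * (refl Q _ hb * refl Q _ ha) *
          (refl Q u hu * refl Q _ ha)⁻¹ * refl Q u hu := by
        have f1 := refl_mul_self (Q := Q) hb
        have f2 := refl_mul_self (Q := Q) ha
        have f3 := refl_mul_self (Q := Q) hu
        have f4 : (refl Q u hu * refl Q _ ha)⁻¹ = refl Q _ ha * refl Q u hu := by
          rw [_root_.mul_inv_rev, inv_eq_of_mul_eq_one_right f3, inv_eq_of_mul_eq_one_right f2]
        rw [f4]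
        calc refl Q w hw = refl Q w hw * (refl Q _ hb * refl Q _ hb) * (refl Q _ ha * refl Q _ ha) *
              (refl Q u hu * refl Q u hu) := by rw [f1, f2, f3, mul_one, mul_one, mul_one]
          _ = _ := by simp only [mul_assoc]
      rw [e4]
      exact mul_mem (mul_mem (mul_mem e1 e2) (inv_mem e3)) hr
    · exact E_le_NN (Subgroup.subset_closure hx)
  | one => exact (NN Q U U').one_mem
  | mul x y _ _ hx hy => exact mul_mem hx hy
  | inv x _ hx => exact inv_mem hx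

theorem map_refl {U : Submodule F V} {u : V} (hu : Q u ≠ 0) (h : ∀ v ∈ U, polar Q u v = 0) :
    U.map (refl Q u hu : V →ₗ[F] V) = U := by
  have h1 : ∀ v ∈ U, refl Q u hu v = v := by
    intro v hv
    rw [refl_apply, h v hv, mul_zero, zero_smul, sub_zero]
  ext v
  constructor
  · rintro ⟨w, hw, rfl⟩
    show refl Q u hu w ∈ U
    rw [h1 w hw]
    exact hw
  · intro hv
    exact ⟨v, hv, h1 v hv⟩

end Geo

section Pair

variable {F V : Type*} [Field F] [AddCommGroup V] [Module F V] [FiniteDimensional F V] {Q : QuadraticForm F V}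
  [Finite F] {m k : ℕ}

/-- `U` and `W` are complementary in the maximal totally singular subspace `z` -/
def RR (U W : (quadPol Q).X k) (z : (quadPol Q).X m) : Prop := U.1 ⊓ W.1 = ⊥ ∧ U.1 ≤ z.1 ∧ W.1 ≤ z.1

theorem RR.sup (hm : m = 2 * k) {U W : (quadPol Q).X k} {z : (quadPol Q).X m} (h : RR U W z) : U.1 ⊔ W.1 = z.1 := by
  apply Submodule.eq_of_le_of_finrank_eq (sup_le h.2.1 h.2.2)
  have h1 := Submodule.finrank_sup_add_finrank_inf_eq U.1 W.1
  rw [h.1, finrank_bot, show finrank F ↥U.1 = k from U.2.2, show finrank F ↥W.1 = k from W.2.2] at h1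
  rw [show finrank F ↥z.1 = m from z.2.2]
  omega

/-- a nonsingular vector orthogonal to `U` and `W` -/
theorem exists_vec (h : Typ Q m 0) (hm : m = 2 * k) {U W : (quadPol Q).X k} (hR : ∀ z : (quadPol Q).X m, ¬ RR U W z) :
    ∃ u : V, Q u ≠ 0 ∧ (∀ v ∈ U.1, polar Q u v = 0) ∧ ∀ v ∈ W.1, polar Q u v = 0 := by
  by_contra hcon
  push Not at hcon
  have hk1 : finrank F ↥U.1 = k := U.2.2
  have hk2 : finrank F ↥W.1 = k := W.2.2
  have h0 : ∀ u ∈ (quadPol Q).perp (U.1 ⊔ W.1), Q u = 0 := by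
    intro u hu
    by_contra hne
    obtain ⟨v, hv, hv2⟩ := hcon u hne fun v hv => hu v (Submodule.mem_sup_left hv)
    exact hv2 (hu v (Submodule.mem_sup_right hv))
  have hTI : (quadPol Q).TI ((quadPol Q).perp (U.1 ⊔ W.1)) := ti_of_sing Q h0
  have h1 := finrank_pp h.nondeg (U.1 ⊔ W.1)
  rw [← perp_eq_pp, h.dim] at h1
  have h2 := Submodule.finrank_sup_add_finrank_inf_eq U.1 W.1
  have h3 := finrank_pp h.nondeg ((quadPol Q).perp (U.1 ⊔ W.1))
  rw [← perp_eq_pp, h.dim] at h3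
  have h4 : (quadPol Q).perp (U.1 ⊔ W.1) ≤ (quadPol Q).perp ((quadPol Q).perp (U.1 ⊔ W.1)) :=
    fun x hx y hy => hTI.2 x hx y hy
  have h5 := Submodule.finrank_mono h4
  have h6 : finrank F ↥((quadPol Q).perp (U.1 ⊔ W.1)) = m := by omega
  have h7 : U.1 ⊔ W.1 = (quadPol Q).perp (U.1 ⊔ W.1) := by
    have h8 : U.1 ⊔ W.1 ≤ (quadPol Q).perp ((quadPol Q).perp (U.1 ⊔ W.1)) := by
      intro x hx y hy
      show polar Q x y = 0
      rw [polar_comm]
      exact hy x hx
    have h9 : (quadPol Q).perp (U.1 ⊔ W.1) = (quadPol Q).perp ((quadPol Q).perp (U.1 ⊔ W.1)) :=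
      Submodule.eq_of_le_of_finrank_eq h4 (by omega)
    rw [← h9] at h8
    exact Submodule.eq_of_le_of_finrank_eq h8 (by omega)
  refine hR ⟨(quadPol Q).perp (U.1 ⊔ W.1), hTI, h6⟩ ⟨?_, ?_, ?_⟩
  · apply Submodule.finrank_eq_zero.1
    rw [h7] at h2
    omega
  · show U.1 ≤ (quadPol Q).perp (U.1 ⊔ W.1)
    rw [← h7]
    exact le_sup_left
  · show W.1 ≤ (quadPol Q).perp (U.1 ⊔ W.1)
    rw [← h7]
    exact le_sup_right

theorem mem_NN (h : Typ Q m 0) (hG : Good Q) (hm : m = 2 * k) {U W : (quadPol Q).X k}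
    (hR : ∀ z : (quadPol Q).X m, ¬ RR U W z) {g : V ≃ₗ[F] V} (hg : g ∈ O Q) : g ∈ NN Q U.1 W.1 := by
  obtain ⟨u, hu, h1, h2⟩ := exists_vec h hm hR
  exact mem_NN_of_refl hG U.2.1 W.2.1 hu (map_refl hu h1) (map_refl hu h2) hg

theorem smul_sup (g : O Q) {U W : (quadPol Q).X k} {z : (quadPol Q).X m} (h : U.1 ⊔ W.1 = z.1) :
    (g • U).1 ⊔ (g • W).1 = (g • z).1 := by
  rw [O_smul, O_smul, O_smul, ← Submodule.map_sup, h]

/-- the other case -/
theorem mem_NN_of_fix (h : Typ Q m 0) (hG : Good Q) (hm : m = 2 * k) {U W : (quadPol Q).X k} {z : (quadPol Q).X m}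
    (hR : RR U W z) {g : O Q} (hg : g • z = z) : (g : V ≃ₗ[F] V) ∈ NN Q U.1 W.1 := by
  obtain ⟨v, hv, hf⟩ := factor' hG U.2.1 W.2.1
  rcases hf g.1 g.2 with h1 | ⟨a, ha, k', hk, e, f1, f2⟩
  · exact h1
  exfalso
  have h1 : g ∈ keep (O Q) (same z) := keep_of_fix h hG z (same_self z) hg
  have h2 : (⟨a, E_le_O ha⟩ : O Q) ∈ keep (O Q) (same z) := E_keep h hG z ha _
  have hkz : (⟨k', hk⟩ : O Q) • z = z := by
    apply Subtype.ext
    rw [← smul_sup (⟨k', hk⟩ : O Q) (hR.sup hm), O_smul, O_smul, ← hR.sup hm]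
    show U.1.map (k' : V →ₗ[F] V) ⊔ W.1.map (k' : V →ₗ[F] V) = _
    rw [f1, f2]
  have h3 : (⟨k', hk⟩ : O Q) ∈ keep (O Q) (same z) := keep_of_fix h hG z (same_self z) hkz
  have h4 : (⟨refl Q v hv, refl_mem_O hv⟩ : O Q) ∉ keep (O Q) (same z) := fun h5 =>
    not_same_refl h hv z ((h5 z).2 (same_self z))
  apply h4
  have h5 : (⟨refl Q v hv, refl_mem_O hv⟩ : O Q) = g⁻¹ * (⟨a, E_le_O ha⟩ * ⟨k', hk⟩) := by
    rw [eq_inv_mul_iff_mul_eq]
    exact Subtype.ext e
  rw [h5]
  exact Subgroup.mul_mem _ (Subgroup.inv_mem _ h1) (Subgroup.mul_mem _ h2 h3)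

theorem orth_of_RR {U W : (quadPol Q).X k} {z : (quadPol Q).X m} (hR : RR U W z) :
    U.1 ⊓ (quadPol Q).perp W.1 = U.1 := by
  apply inf_eq_left.2
  intro x hx y hy
  exact z.2.1.2 x (hR.2.1 hx) y (hR.2.2 hy)

theorem of_NN {U W : (quadPol Q).X k} {g : O Q} (h : (g : V ≃ₗ[F] V) ∈ NN Q U.1 W.1) :
    ∃ a : O Q, (a : V ≃ₗ[F] V) ∈ E Q ∧ ∃ b : O Q, g = a * b ∧ b • U = U ∧ b • W = W := by
  obtain ⟨a, ha, b, hb, e, f1, f2⟩ := h
  exact ⟨⟨a, E_le_O ha⟩, ha, ⟨b, hb⟩, Subtype.ext e, Subtype.ext f1, Subtype.ext f2⟩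

/-- **`E Q` interchanges two totally singular `k`-spaces** -/
theorem swap_E (h : Typ Q m 0) (hG : Good Q) (hm : m = 2 * k) (U W : (quadPol Q).X k) :
    ∃ a : O Q, (a : V ≃ₗ[F] V) ∈ E Q ∧ a • U = W ∧ a • W = U := by
  have e1 := dim_symm (Q := Q) U.2.1 W.2.1
  rw [show finrank F U.1 = k from U.2.2, show finrank F W.1 = k from W.2.2] at e1
  obtain ⟨g, h1, h2⟩ := pair_O h U W W U (by rw [inf_comm]) (by omega)
  have h3 : (g : V ≃ₗ[F] V) ∈ NN Q U.1 W.1 := by
    by_cases hR : ∃ z : (quadPol Q).X m, RR U W z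
    · obtain ⟨z, hz⟩ := hR
      refine mem_NN_of_fix h hG hm hz (Subtype.ext ?_)
      rw [← smul_sup g (hz.sup hm), h1, h2, sup_comm, hz.sup hm]
    · push Not at hR
      exact mem_NN h hG hm hR g.2
  obtain ⟨a, ha, b, e, f1, f2⟩ := of_NN h3
  refine ⟨a, ha, ?_, ?_⟩
  · rw [← h1, e, mul_smul, f1]
  · rw [← h2, e, mul_smul, f2]

/-- `E Q` as a normal subgroup of the isometry group -/
abbrev EN (Q : QuadraticForm F V) : Subgroup (O Q) := (E Q).subgroupOf (O Q)

instance EN_normal : (EN Q).Normal := ⟨fun n hn g => conj_mem_E g.2 hn⟩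

noncomputable instance (j : ℕ) : Fintype ((quadPol Q).X j) := Fintype.ofFinite _

theorem fam_N_int (h : Typ Q m 0) (hG : Good Q) [Fintype (O Q)] [Fintype (EN Q)] {θ : EN Q → ℂ}
    (hθ : IsIrrCharacter (EN Q) θ) (h0 : classInner (permC (EN Q) ((quadPol Q).X m)) θ ≠ 0) (g : EN Q) :
    ∃ j : ℤ, θ g = j := by
  classical
  -- one family
  have key : ∀ U0 : (quadPol Q).X m, ∀ hE : ∀ n : EN Q, (EN Q).subtype n ∈ keep (O Q) (same U0),
      classInner (fun n : EN Q => (fixc (same U0) (n : O Q) : ℂ)) θ ≠ 0 → ∃ j : ℤ, θ g = j := by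
    intro U0 hE h1
    let _ : MulAction (EN Q) {x : (quadPol Q).X m // same U0 x} :=
      { smul := fun n x => ⟨(n : O Q) • x.1, (hE n x.1).2 x.2⟩
        one_smul := fun x => Subtype.ext (one_smul (O Q) x.1)
        mul_smul := fun n n' x => Subtype.ext (mul_smul (n : O Q) (n' : O Q) x.1) }
    refine fam_int (I := O Q) (X := (quadPol Q).X m) (halves h hG U0) (selfpaired h) (fun χ hχ h2 g => O_int h m hχ h2 g)
      (EN Q).subtype hE (fun n x => rfl) ?_ hθ ?_ g
    · rintro x y x' y' ⟨g, h2, h3⟩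
      have hs : same x.1 x'.1 := by
        have h3 := same_iff h x.1 U0 x'.1
        have h4 : same x.1 U0 ↔ same U0 x.1 := by
          show Even (finrank F ↥(x.1.1 ⊓ U0.1) + m) ↔ Even (finrank F ↥(U0.1 ⊓ x.1.1) + m)
          rw [inf_comm]
        have h5 := x.2
        have h6 := x'.2
        tauto
      obtain ⟨a, ha, e1, e2⟩ := pair_E h hG hs g h2 h3
      exact ⟨⟨⟨a, E_le_O ha⟩, ha⟩, Subtype.ext (Subtype.ext e1), Subtype.ext (Subtype.ext e2)⟩
    · have h2 : permC (EN Q) {x : (quadPol Q).X m // same U0 x} = fun n : EN Q => (fixc (same U0) (n : O Q) : ℂ) := by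
        funext n
        show (Nat.card _ : ℂ) = (Nat.card _ : ℂ)
        congr 1
        refine Nat.card_congr
          { toFun := fun y => ⟨y.1.1, y.1.2, congrArg Subtype.val y.2⟩
            invFun := fun y => ⟨⟨y.1, y.2.1⟩, Subtype.ext y.2.2⟩
            left_inv := fun y => rfl
            right_inv := fun y => rfl }
      rw [h2]
      exact h1
  have hpos := h.card_X_pos (le_refl m)
  obtain ⟨U0⟩ : Nonempty ((quadPol Q).X m) := (Nat.card_pos_iff.1 hpos).1
  have hE : ∀ (U0 : (quadPol Q).X m) (n : EN Q), (EN Q).subtype n ∈ keep (O Q) (same U0) := fun U0 n =>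
    E_keep h hG U0 n.2 n.1.2
  obtain ⟨s, hs⟩ := (halves h hG U0).swap
  have hsU : ∀ x : (quadPol Q).X m, same (s • U0) x ↔ ¬ same U0 x := by
    intro x
    have h1 := same_iff h U0 (s • U0) x
    have h2 := hs U0
    have h3 := same_self U0
    tauto
  have hsum : permC (EN Q) ((quadPol Q).X m) = (fun n : EN Q => (fixc (same U0) (n : O Q) : ℂ)) +
      fun n : EN Q => (fixc (same (s • U0)) (n : O Q) : ℂ) := by
    funext n
    have h1 := fix_eq (I := O Q) (same U0) (n : O Q)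
    have h2 : (fun x => ¬ same U0 x) = same (s • U0) := by
      funext x
      exact propext (hsU x).symm
    rw [h2] at h1
    exact h1
  rw [hsum, classInner_add_left] at h0
  by_cases h1 : classInner (fun n : EN Q => (fixc (same U0) (n : O Q) : ℂ)) θ = 0
  · rw [h1, zero_add] at h0
    exact key (s • U0) (hE _) h0
  · exact key U0 (hE _) h1

/-- **the constituents of `E Q` on the totally singular `k`-spaces are integer valued** -/
theorem N_int (h : Typ Q m 0) (hG : Good Q) (hm : m = 2 * k) [Fintype (O Q)] [Fintype (EN Q)] {θ : EN Q → ℂ}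
    (hθ : IsIrrCharacter (EN Q) θ) (h0 : classInner (permC (EN Q) ((quadPol Q).X k)) θ ≠ 0) (g : EN Q) :
    ∃ j : ℤ, θ g = j := by
  refine split_int (I := O Q) (N := EN Q) (X := (quadPol Q).X k) (Z := (quadPol Q).X m)
    (R := RR) (T := fun z U => U.1 ≤ z.1)
    (fun χ hχ h2 g => O_int h k hχ h2 g) (fun θ hθ h1 g => fam_N_int h hG hθ h1 g) ?_ ?_ ?_ ?_ ?_ hθ h0 g
  · intro g z x
    show (g • x).1 ≤ (g • z).1 ↔ x.1 ≤ z.1
    rw [O_smul, O_smul]
    exact Submodule.map_le_map_iff_of_injective (g : V ≃ₗ[F] V).injective _ _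
  · exact fun x y z hR => ⟨hR.2.1, hR.2.2⟩
  · intro x y z z' hR h1 h2
    apply Subtype.ext
    rw [← hR.sup hm]
    symm
    apply Submodule.eq_of_le_of_finrank_eq (sup_le h1 h2)
    rw [hR.sup hm]
    exact z'.2.2.trans z.2.2.symm
  · intro x y hR g
    obtain ⟨a, ha, b, e, f1, f2⟩ := of_NN (mem_NN h hG hm hR g.2)
    exact ⟨a, ha, b, e, f1, f2⟩
  · intro x x' y z hR hR'
    obtain ⟨g, h1, h2⟩ := pair_O h x x' y y (by rw [hR.1, hR'.1]) (by
      rw [orth_of_RR hR, orth_of_RR hR']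
      exact x.2.2.trans x'.2.2.symm)
    have hz : g • z = z := by
      apply Subtype.ext
      rw [← smul_sup g (hR.sup hm), h1, h2, hR'.sup hm]
    obtain ⟨a, ha, b, e, f1, f2⟩ := of_NN (mem_NN_of_fix h hG hm hR hz)
    refine ⟨a, ha, ?_, ?_⟩
    · rw [← h1, e, mul_smul, f1]
    · nth_rewrite 2 [← h2]
      rw [e, mul_smul, f2]

end Pair

end Cfsg.Agent.H442.CY
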