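import Cfsg.Agent.H145.BR.CountDefs
import Cfsg.Agent.Blocks.Orthogonality
import Cfsg.Agent.Characters.GaloisIrr
import Cfsg.Agent.Characters.GaloisBasic
import Cfsg.Agent.Characters.Galois
import Cfsg.Agent.Characters.Clifford
import Cfsg.Agent.Characters.Core
import Cfsg.Agent.H636.BR.Half

/-!
# S4829: rationality of the constituents of a permutation character with a split orbital (helper442)

`EE θ x y = ∑ θ(n⁻¹)` over `n • y = x` : the kernel of the central idempotent of `θ` on the functions on `X`.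
* `EE_eq_zero` : it vanishes if `θ` does not occur;
* `EE_ne` : distinct constituents have distinct kernels;
* `split_int` : `N` normal in `I`, the constituents of `permC I X` integer valued; the orbitals of `I` on `X` which are not
  orbitals of `N` are detected by an incidence structure `Z` all of whose constituents are integer valued for `N`: then the
  constituents of `permC N X` are integer valued.
-/

set_option autoImplicit false
set_option linter.unusedSectionVars false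

open Cfsg Cfsg.Agent.Characters Cfsg.Agent.Characters.Core Cfsg.Agent.H145.BR
open scoped ComplexConjugate Classical

namespace Cfsg.Agent.H442.CY

universe u v w

section kern

variable {N : Type u} [Group N] [Fintype N] {X : Type v} [Fintype X] [MulAction N X]

/-- the kernel of the central idempotent (up to a scalar) -/
noncomputable def EE (θ : N → ℂ) (x y : X) : ℂ := ∑ n : N, if n • y = x then θ n⁻¹ else 0

/-- hermitian -/
theorem EE_conj {θ : N → ℂ} (hθ : IsIrrCharacter N θ) (x y : X) : conj (EE θ x y) = EE θ y x := by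
  unfold EE
  rw [map_sum, ← Equiv.sum_comp (Equiv.inv N)]
  refine Finset.sum_congr rfl fun n _ => ?_
  have e1 : (Equiv.inv N) n = n⁻¹ := rfl
  rw [e1, apply_ite conj, map_zero]
  have e2 : n⁻¹ • y = x ↔ n • x = y := by
    rw [inv_smul_eq_iff]
    exact eq_comm
  by_cases h : n • x = y
  · rw [if_pos h, if_pos (e2.2 h), inv_inv, ← Cfsg.Agent.Blocks.Orthogonality.irr_apply_inv hθ]
  · rw [if_neg h, if_neg fun h' => h (e2.1 h')]

theorem sum_EE [DecidableEq (IrrCharacter N)] (θ ψ : IrrCharacter N) :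
    ∑ x : X, ∑ y : X, EE (θ : N → ℂ) x y * EE (ψ : N → ℂ) y x =
      if θ = ψ then (Nat.card N : ℂ) / (θ : N → ℂ) 1 * ((Nat.card N : ℂ) * classInner (permC N X) (θ : N → ℂ)) else 0 := by
  have hN : (Nat.card N : ℂ) ≠ 0 := Nat.cast_ne_zero.2 Nat.card_pos.ne'
  have h1 : ∑ x : X, ∑ y : X, EE (θ : N → ℂ) x y * EE (ψ : N → ℂ) y x =
      ∑ n : N, ∑ m : N, (Nat.card (MulAction.fixedBy X (m * n)) : ℂ) * ((θ : N → ℂ) n⁻¹ * (ψ : N → ℂ) m⁻¹) := by
    unfold EE
    simp_rw [Finset.sum_mul_sum]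
    have e1 : ∀ x y : X, ∑ n : N, ∑ m : N, ((if n • y = x then (θ : N → ℂ) n⁻¹ else 0) *
        if m • x = y then (ψ : N → ℂ) m⁻¹ else 0) =
        ∑ n : N, ∑ m : N, if n • y = x ∧ m • x = y then (θ : N → ℂ) n⁻¹ * (ψ : N → ℂ) m⁻¹ else 0 := by
      intro x y
      refine Finset.sum_congr rfl fun n _ => Finset.sum_congr rfl fun m _ => ?_
      by_cases h1 : n • y = x <;> by_cases h2 : m • x = y <;> simp [h1, h2]
    rw [Finset.sum_congr rfl fun x _ => Finset.sum_congr rfl fun y _ => e1 x y]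
    rw [Finset.sum_congr rfl fun x _ => Finset.sum_comm, Finset.sum_comm]
    refine Finset.sum_congr rfl fun n _ => ?_
    rw [Finset.sum_congr rfl fun x _ => Finset.sum_comm, Finset.sum_comm]
    refine Finset.sum_congr rfl fun m _ => ?_
    rw [Finset.sum_comm]
    have e2 : ∀ y : X, ∑ x : X, (if n • y = x ∧ m • x = y then (θ : N → ℂ) n⁻¹ * (ψ : N → ℂ) m⁻¹ else 0) =
        if (m * n) • y = y then (θ : N → ℂ) n⁻¹ * (ψ : N → ℂ) m⁻¹ else 0 := by
      intro y
      rw [Finset.sum_eq_single (n • y)]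
      · by_cases h : (m * n) • y = y
        · rw [if_pos h, if_pos ⟨rfl, by rw [← mul_smul]; exact h⟩]
        · rw [if_neg h, if_neg fun h' => h (by rw [mul_smul]; exact h'.2)]
      · intro x _ hx
        rw [if_neg fun h' => hx h'.1.symm]
      · intro h
        exact absurd (Finset.mem_univ _) h
    rw [Finset.sum_congr rfl fun y _ => e2 y, ← Finset.sum_filter, Finset.sum_const, nsmul_eq_mul]
    congr 2
    rw [Nat.card_eq_fintype_card, Fintype.card_subtype]
    rfl
  have h2 : ∀ n : N, ∑ m : N, (Nat.card (MulAction.fixedBy X (m * n)) : ℂ) * ((θ : N → ℂ) n⁻¹ * (ψ : N → ℂ) m⁻¹) =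
      ∑ g : N, (Nat.card (MulAction.fixedBy X g) : ℂ) * ((θ : N → ℂ) n⁻¹ * (ψ : N → ℂ) (n * g⁻¹)) := by
    intro n
    rw [← Equiv.sum_comp (Equiv.mulRight n⁻¹)]
    refine Finset.sum_congr rfl fun g _ => ?_
    show (Nat.card (MulAction.fixedBy X (g * n⁻¹ * n)) : ℂ) * ((θ : N → ℂ) n⁻¹ * (ψ : N → ℂ) (g * n⁻¹)⁻¹) = _
    rw [inv_mul_cancel_right, _root_.mul_inv_rev, inv_inv]
  have h3 : ∀ g : N, ∑ n : N, (θ : N → ℂ) n⁻¹ * (ψ : N → ℂ) (n * g⁻¹) =
      if θ = ψ then (Nat.card N : ℂ) * (θ : N → ℂ) g⁻¹ / (θ : N → ℂ) 1 else 0 := by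
    intro g
    rw [← Cfsg.Agent.Blocks.Orthogonality.sum_irr_mul_irr θ ψ g⁻¹, ← Equiv.sum_comp (Equiv.inv N)]
    refine Finset.sum_congr rfl fun n _ => ?_
    show (θ : N → ℂ) n⁻¹⁻¹ * (ψ : N → ℂ) (n⁻¹ * g⁻¹) = _
    rw [inv_inv]
  rw [h1, Finset.sum_congr rfl fun n _ => h2 n, Finset.sum_comm]
  simp_rw [← Finset.mul_sum, h3]
  split_ifs with h
  · rw [classInner_def, mul_inv_cancel_left₀ hN, Finset.mul_sum]
    refine Finset.sum_congr rfl fun g _ => ?_
    rw [Cfsg.Agent.Blocks.Orthogonality.irr_apply_inv θ.2]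
    show _ = (Nat.card N : ℂ) / (θ : N → ℂ) 1 * ((Nat.card (MulAction.fixedBy X g) : ℂ) * _)
    ring
  · simp

theorem EE_eq_zero {θ : N → ℂ} (hθ : IsIrrCharacter N θ) (h : classInner (permC N X) θ = 0) (x y : X) :
    EE θ x y = 0 := by
  have h1 := sum_EE (X := X) (⟨θ, hθ⟩ : IrrCharacter N) ⟨θ, hθ⟩
  rw [if_pos rfl] at h1
  have h2 : ∑ x : X, ∑ y : X, EE θ x y * EE θ y x = 0 := by
    refine h1.trans ?_
    have h3 : classInner (permC N X) ((⟨θ, hθ⟩ : IrrCharacter N) : N → ℂ) = 0 := h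
    rw [h3, mul_zero, mul_zero]
  have h3 : ∑ x : X, ∑ y : X, Complex.normSq (EE θ x y) = 0 := by
    have h4 : ((∑ x : X, ∑ y : X, Complex.normSq (EE θ x y) : ℝ) : ℂ) = 0 := by
      rw [← h2]
      push_cast
      refine Finset.sum_congr rfl fun x _ => Finset.sum_congr rfl fun y _ => ?_
      rw [← Complex.mul_conj, EE_conj hθ]
    exact_mod_cast h4
  have h4 := (Finset.sum_eq_zero_iff_of_nonneg fun x _ => Finset.sum_nonneg fun y _ => Complex.normSq_nonneg _).1 h3 x
    (Finset.mem_univ x)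
  have h5 := (Finset.sum_eq_zero_iff_of_nonneg fun y _ => Complex.normSq_nonneg _).1 h4 y (Finset.mem_univ y)
  exact Complex.normSq_eq_zero.1 h5

theorem EE_ne {θ θ' : N → ℂ} (hθ : IsIrrCharacter N θ) (hθ' : IsIrrCharacter N θ') (hne : θ ≠ θ')
    (h : classInner (permC N X) θ ≠ 0) : ∃ x y : X, EE θ x y ≠ EE θ' x y := by
  by_contra hcon
  push Not at hcon
  have h1 := sum_EE (X := X) (⟨θ, hθ⟩ : IrrCharacter N) ⟨θ, hθ⟩
  have h2 := sum_EE (X := X) (⟨θ, hθ⟩ : IrrCharacter N) ⟨θ', hθ'⟩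
  rw [if_pos rfl] at h1
  rw [if_neg fun e => hne (congrArg Subtype.val e)] at h2
  have h3 : ∑ x : X, ∑ y : X, EE θ x y * EE θ y x = ∑ x : X, ∑ y : X, EE θ x y * EE θ' y x :=
    Finset.sum_congr rfl fun x _ => Finset.sum_congr rfl fun y _ => by rw [hcon y x]
  have h4 : (Nat.card N : ℂ) / θ 1 * ((Nat.card N : ℂ) * classInner (permC N X) θ) = 0 :=
    h1.symm.trans (h3.trans h2)
  have hN : (Nat.card N : ℂ) ≠ 0 := Nat.cast_ne_zero.2 Nat.card_pos.ne'
  exact mul_ne_zero (div_ne_zero hN (isIrr_apply_one_ne_zero hθ)) (mul_ne_zero hN h) h4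

/-- invariant matrices commute with the kernels -/
theorem EE_comm {Z : Type w} [Fintype Z] [MulAction N Z] {T : Z → X → ℂ} (hT : ∀ (n : N) z x, T (n • z) (n • x) = T z x)
    (θ : N → ℂ) (z : Z) (y : X) : ∑ x : X, T z x * EE θ x y = ∑ z' : Z, EE θ z z' * T z' y := by
  unfold EE
  have e1 : ∑ x : X, T z x * ∑ n : N, (if n • y = x then θ n⁻¹ else 0) = ∑ n : N, T z (n • y) * θ n⁻¹ := by
    simp_rw [Finset.mul_sum]
    rw [Finset.sum_comm]
    refine Finset.sum_congr rfl fun n _ => ?_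
    rw [Finset.sum_eq_single (n • y)]
    · rw [if_pos rfl]
    · intro x _ hx
      rw [if_neg (Ne.symm hx), mul_zero]
    · intro h
      exact absurd (Finset.mem_univ _) h
  have e2 : ∑ z' : Z, (∑ n : N, if n • z' = z then θ n⁻¹ else 0) * T z' y = ∑ n : N, T z (n • y) * θ n⁻¹ := by
    simp_rw [Finset.sum_mul]
    rw [Finset.sum_comm]
    refine Finset.sum_congr rfl fun n _ => ?_
    rw [Finset.sum_eq_single (n⁻¹ • z)]
    · rw [if_pos (smul_inv_smul n z)]
      have h1 := hT n (n⁻¹ • z) y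
      rw [smul_inv_smul] at h1
      rw [h1]
      ring
    · intro z' _ hz
      rw [if_neg, zero_mul]
      rintro rfl
      exact hz (inv_smul_smul n z').symm
    · intro h
      exact absurd (Finset.mem_univ _) h
  rw [e1, e2]

theorem EE_inv {θ : N → ℂ} (hθ : IsClassFunction N θ) (h : N) (x y : X) : EE θ (h • x) (h • y) = EE θ x y := by
  unfold EE
  rw [← Equiv.sum_comp (MulAut.conj h).toEquiv]
  refine Finset.sum_congr rfl fun g _ => ?_
  have e1 : ((MulAut.conj h).toEquiv g : N) = h * g * h⁻¹ := rfl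
  rw [e1]
  have e2 : (h * g * h⁻¹)⁻¹ = h * g⁻¹ * h⁻¹ := by group
  rw [e2, hθ g⁻¹ h, mul_smul, mul_smul, inv_smul_smul]
  congr 1
  exact propext ⟨fun h1 => MulAction.injective h h1, fun h1 => by rw [h1]⟩

theorem EE_map (σ : ℂ ≃+* ℂ) (θ : N → ℂ) (x y : X) : EE (fun g => σ (θ g)) x y = σ (EE θ x y) := by
  unfold EE
  rw [map_sum]
  refine Finset.sum_congr rfl fun n _ => ?_
  rw [apply_ite σ, map_zero]

end kern

section normal

variable {I : Type u} [Group I] {N : Subgroup I} [N.Normal] [Fintype N] {X : Type v} [Fintype X] [MulAction I X]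

theorem EE_conjNormal (θ : N → ℂ) (g : I) (x y : X) :
    EE (θ ∘ (MulAut.conjNormal g : MulAut N)) x y = EE θ (g • x) (g • y) := by
  unfold EE
  conv_rhs => rw [← Equiv.sum_comp (MulAut.conjNormal g : MulAut N).toEquiv]
  refine Finset.sum_congr rfl fun n _ => ?_
  have e1 : ((MulAut.conjNormal g : MulAut N).toEquiv n) = (MulAut.conjNormal g : MulAut N) n := rfl
  have e2 : ((MulAut.conjNormal g : MulAut N) n) • g • y = g • n • y := by
    show (((MulAut.conjNormal g : MulAut N) n : N) : I) • g • y = g • (n : I) • y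
    rw [MulAut.conjNormal_apply, ← mul_smul, ← mul_smul, inv_mul_cancel_right]
  rw [e1, e2]
  have e3 : g • n • y = g • x ↔ n • y = x := ⟨fun h => MulAction.injective g h, fun h => by rw [h]⟩
  by_cases h : n • y = x
  · rw [if_pos h, if_pos (e3.2 h), Function.comp, map_inv]
  · rw [if_neg h, if_neg fun h' => h (e3.1 h')]

/-- **the constituents are integer valued** -/
theorem split_int [Fintype I] {Z : Type w} [Fintype Z] [MulAction I Z]
    (hint : ∀ χ : I → ℂ, IsIrrCharacter I χ → classInner (permC I X) χ ≠ 0 → ∀ g, ∃ k : ℤ, χ g = k)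
    (hZ : ∀ θ : N → ℂ, IsIrrCharacter N θ → classInner (permC N Z) θ ≠ 0 → ∀ g, ∃ k : ℤ, θ g = k)
    {R : X → X → Z → Prop} {T : Z → X → Prop} (hT : ∀ (g : I) z x, T (g • z) (g • x) ↔ T z x)
    (hRT : ∀ x y z, R x y z → T z x ∧ T z y)
    (hTR : ∀ x y z z', R x y z' → T z x → T z y → z = z')
    (hns : ∀ x y, (∀ z, ¬ R x y z) → ∀ g : I, ∃ n ∈ N, ∃ k : I, g = n * k ∧ k • x = x ∧ k • y = y)
    (hsp : ∀ x x' y z, R x y z → R x' y z → ∃ n ∈ N, n • x = x' ∧ n • y = y)
    {θ : N → ℂ} (hθ : IsIrrCharacter N θ) (h0 : classInner (permC N X) θ ≠ 0) (g : N) : ∃ k : ℤ, θ g = k := by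
  apply Galois.exists_int_of_forall_ringEquiv (GaloisBasic.isIntegral_apply (isIrr_isCharacter hθ) g)
  intro σ
  by_contra hne
  have hσ : IsIrrCharacter N (fun g => σ (θ g)) := GaloisIrr.isIrr_map σ hθ
  have hne' : θ ≠ fun g => σ (θ g) := fun e => hne (congrFun e g).symm
  -- the two kernels differ
  obtain ⟨x₀, y₀, hD⟩ := EE_ne (X := X) hθ hσ hne' h0
  -- the Galois conjugate is a conjugate
  have hcomp : permC N X = permC I X ∘ N.subtype := by
    funext h
    rfl
  have h0' := h0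
  rw [hcomp] at h0'
  obtain ⟨χ, hχ, h1, h2⟩ := Cfsg.Agent.H636.BR.exists_over_res N.subtype (Cfsg.Agent.H636.BR.isCharacter_permC I X) h0'
  have h9 : classInner (fun n : N => χ n) (fun g => σ (θ g)) ≠ 0 := by
    have h7 := GaloisIrr.classInner_map σ (χ := χ ∘ N.subtype) (isIrr_isCharacter hθ)
    have h8 : (fun g => σ ((χ ∘ N.subtype) g)) = χ ∘ N.subtype := by
      funext g
      obtain ⟨k, hk⟩ := hint χ hχ h1 (g : I)
      show σ (χ (g : I)) = χ (g : I)
      rw [hk]
      exact map_intCast σ k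
    rw [h8] at h7
    have h10 : classInner (χ ∘ N.subtype) (fun g => σ (θ g)) ≠ 0 := by
      rw [h7]
      exact (map_ne_zero_iff σ σ.injective).2 h2
    exact h10
  obtain ⟨g₀, hg₀⟩ := Clifford.exists_conj_of_constituents N hχ hθ hσ h2 h9
  -- pairs without `R`
  have hns' : ∀ x y : X, (∀ z, ¬ R x y z) → EE θ x y = EE (fun g => σ (θ g)) x y := by
    intro x y hR
    obtain ⟨n, hn, k, hg, hx, hy⟩ := hns x y hR g₀
    rw [hg₀, EE_conjNormal, hg, mul_smul, mul_smul, hx, hy]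
    exact (EE_inv (isIrr_isClassFunction hθ) (⟨n, hn⟩ : N) x y).symm
  obtain ⟨z₀, hz₀⟩ : ∃ z, R x₀ y₀ z := by
    by_contra hcon
    push Not at hcon
    exact hD (hns' x₀ y₀ hcon)
  -- the kernels vanish on `Z`
  have hnoZ : ∀ ψ : N → ℂ, IsIrrCharacter N ψ → ψ = θ ∨ ψ = (fun g => σ (θ g)) → ∀ z z' : Z, EE ψ z z' = 0 := by
    intro ψ hψ hcase
    refine EE_eq_zero hψ ?_
    by_contra hcon
    have h3 := hZ ψ hψ hcon g
    apply hne
    obtain ⟨k, hk⟩ := h3
    rcases hcase with rfl | rfl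
    · rw [hk]; exact map_intCast σ k
    · have h4 : θ g = (k : ℂ) := by
        apply σ.injective
        rw [map_intCast]
        exact hk
      rw [h4]; exact map_intCast σ k
  let T' : Z → X → ℂ := fun z x => if T z x then 1 else 0
  have hT' : ∀ (n : N) z x, T' (n • z) (n • x) = T' z x := by
    intro n z x
    have := hT (n : I) z x
    show (if T ((n : I) • z) ((n : I) • x) then (1 : ℂ) else 0) = if T z x then 1 else 0
    by_cases h : T z x
    · rw [if_pos h, if_pos (this.2 h)]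
    · rw [if_neg h, if_neg fun h' => h (this.1 h')]
  have h5 : ∀ ψ : N → ℂ, IsIrrCharacter N ψ → ψ = θ ∨ ψ = (fun g => σ (θ g)) →
      ∑ x : X, T' z₀ x * EE ψ x y₀ = 0 := by
    intro ψ hψ hcase
    rw [EE_comm hT' ψ z₀ y₀]
    exact Finset.sum_eq_zero fun z' _ => by rw [hnoZ ψ hψ hcase, zero_mul]
  have h6 : ∑ x : X, T' z₀ x * (EE θ x y₀ - EE (fun g => σ (θ g)) x y₀) = 0 := by
    simp_rw [mul_sub]
    rw [Finset.sum_sub_distrib, h5 θ hθ (Or.inl rfl), h5 _ hσ (Or.inr rfl), sub_zero]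
  -- the value
  set d : ℂ := EE θ x₀ y₀ - EE (fun g => σ (θ g)) x₀ y₀ with hd
  have h7 : ∀ x : X, T' z₀ x * (EE θ x y₀ - EE (fun g => σ (θ g)) x y₀) = if R x y₀ z₀ then d else 0 := by
    intro x
    by_cases hR : R x y₀ z₀
    · rw [if_pos hR]
      have e1 : T' z₀ x = 1 := if_pos (hRT x y₀ z₀ hR).1
      obtain ⟨n, hn, e2, e3⟩ := hsp x x₀ y₀ z₀ hR hz₀
      rw [e1, one_mul, hd]
      have e4 := EE_inv (isIrr_isClassFunction hθ) (⟨n, hn⟩ : N) x y₀
      have e5 := EE_inv (isIrr_isClassFunction hσ) (⟨n, hn⟩ : N) x y₀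
      have e6 : (⟨n, hn⟩ : N) • x = x₀ := e2
      have e7 : (⟨n, hn⟩ : N) • y₀ = y₀ := e3
      rw [e6, e7] at e4 e5
      rw [e4, e5]
    · rw [if_neg hR]
      by_cases hTx : T z₀ x
      · have hR' : ∀ z, ¬ R x y₀ z := by
          intro z hz
          have e1 := hTR x y₀ z₀ z hz hTx (hRT x₀ y₀ z₀ hz₀).2
          exact hR (e1 ▸ hz)
        rw [hns' x y₀ hR', sub_self, mul_zero]
      · have e1 : T' z₀ x = 0 := if_neg hTx
        rw [e1, zero_mul]
  rw [Finset.sum_congr rfl fun x _ => h7 x, ← Finset.sum_filter, Finset.sum_const, nsmul_eq_mul] at h6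
  rcases mul_eq_zero.1 h6 with h8 | h8
  · have h10 : (Finset.univ.filter fun x : X => R x y₀ z₀).card = 0 := by exact_mod_cast h8
    have h11 : x₀ ∈ Finset.univ.filter fun x : X => R x y₀ z₀ := Finset.mem_filter.2 ⟨Finset.mem_univ _, hz₀⟩
    rw [Finset.card_eq_zero] at h10
    rw [h10] at h11
    exact absurd h11 (Finset.notMem_empty _)
  · exact hD (sub_eq_zero.1 h8)

end normal

end Cfsg.Agent.H442.CY
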