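import Cfsg.Agent.H488.CY.Perm
import Cfsg.Agent.H246.CY.Mf
import Cfsg.Agent.H221.CY.Prep
import Cfsg.Agent.H221.CY.Three

/-!
# S4829: the row from a transitive set with self-paired orbitals (helper442)

* `rowA_of_swap` : `MulAut S` acts on `X`, `S` interchanges any two points, `p ∣ |X|`, the constituents are integer valued;
* `rowA_of_dvd` : the totally singular `k`-spaces, `1 ≤ k ≤ K`.
-/

set_option autoImplicit false

open Module Subgroup Cfsg
open Cfsg.Agent.H2.Pol Cfsg.Agent.H674.BR Cfsg.Agent.H646.BR Cfsg.Agent.H145.BR Cfsg.Agent.H623.BR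
open Cfsg.Agent.H31.BR Cfsg.Agent.H770.CY Cfsg.Agent.Characters Cfsg.Agent.H488.CY Cfsg.Agent.H246.CY

namespace Cfsg.Agent.H442.CY

universe u v

section abstract

variable {p : ℕ} [hp : Fact p.Prime] {S : Type u} [Group S] [Fintype S] {X : Type v} [Finite X] [Nonempty X]
  [MulAction S X] [MulAction (MulAut S) X]

theorem rowA_of_swap (hcomp : ∀ (s : S) (x : X), (MulAut.conj s : MulAut S) • x = s • x)
    (hsw : ∀ a b : X, ∃ g : S, g • a = b ∧ g • b = a) (hd : p ∣ Nat.card X)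
    (hint : ∀ θ : IrrCharacter S, classInner (permC S X) (θ : S → ℂ) ≠ 0 → ∀ g, ∃ z : ℤ, (θ : S → ℂ) g = z) :
    RowA p S := by
  intro A hA M hM
  have hpre : MulAction.IsPretransitive S X := ⟨fun x y => by
    obtain ⟨g, hg, -⟩ := hsw x y
    exact ⟨g, hg⟩⟩
  have hfin : Finite (MulAut S) := inferInstance
  have hone : Nat.card (MulAction.fixedBy X (1 : A)) = Nat.card X :=
    Nat.card_congr ⟨fun x => x.1, fun x => ⟨x, one_smul A x⟩, fun x => rfl, fun x => rfl⟩
  have htr : ∀ x y : X, ∃ s : S, MulAut.conj s • x = y := by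
    intro x y
    obtain ⟨g, hg, -⟩ := hsw x y
    exact ⟨g, by rw [hcomp, hg]⟩
  refine ⟨fun a : A => (Nat.card (MulAction.fixedBy X a) : ℂ) - 1, isCharacter_sub_one X, cyc_perm p, ?_, ?_, ?_⟩
  · have hpos : 0 < Nat.card X := Nat.card_pos
    refine ⟨Nat.card X - 1, ?_, fun h => ?_⟩
    · show (Nat.card (MulAction.fixedBy X (1 : A)) : ℂ) - 1 = _
      rw [hone, Nat.cast_sub hpos, Nat.cast_one]
    · have h2 : p ∣ 1 := by
        have := (Nat.dvd_sub hd h)
        rwa [Nat.sub_sub_self hpos] at this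
      exact hp.out.one_lt.ne' (Nat.dvd_one.1 h2)
  · intro θ
    have h1 : res hA.1 (fun a : A => (Nat.card (MulAction.fixedBy X a) : ℂ) - 1) = fun g => permC S X g - 1 := by
      funext s
      show (Nat.card (MulAction.fixedBy X (⟨MulAut.conj s, hA.1 s⟩ : A)) : ℂ) - 1 = (Nat.card _ : ℂ) - 1
      congr 2
      refine Nat.card_congr (Equiv.subtypeEquivRight fun x => ?_)
      exact ⟨fun h => (hcomp s x).symm.trans h, fun h => (hcomp s x).trans h⟩
    rw [h1]
    rcases mf_sub_one (X := X) hsw θ with h2 | ⟨h2, h3⟩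
    · exact Or.inl h2
    · refine Or.inr ⟨h2, h3, Cfsg.Agent.H221.CY.cyc_of_int (Core.isIrr_isCharacter θ.2) (hint θ fun h4 => ?_)⟩
      have h5 : mul (fun g => permC S X g - 1) (θ : S → ℂ) = mul (permC S X) (θ : S → ℂ) - mul (fun _ => 1) (θ : S → ℂ) :=
        Cfsg.Agent.H246.CY.mul_sub (permC S X) (fun _ => 1) (θ : S → ℂ)
      have h6 : mul (fun _ => 1) (θ : S → ℂ) = 0 :=
        Core.classInner_irr_ne Cfsg.Agent.PermutationGroups.MultFree.isIrr_one θ.2 fun h' => h3 h'.symm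
      have h7 : mul (permC S X) (θ : S → ℂ) = 0 := h4
      rw [h5, h6, h7, sub_zero] at h2
      exact zero_ne_one h2
  · rintro a - ⟨Q, hQ⟩
    show MemLocalIdeal M ((Nat.card (MulAction.fixedBy X a) : ℂ) - 1 - ((Nat.card (MulAction.fixedBy X (1 : A)) : ℂ) - 1))
    have hcard : Nat.card (MulAction.fixedBy X a) = Nat.card (MulAction.fixedBy X (a : MulAut S)) := rfl
    rw [hone, hcard]
    have h1 : ((Nat.card (MulAction.fixedBy X (a : MulAut S)) : ℂ) - 1 - ((Nat.card X : ℂ) - 1)) =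
        (((Nat.card (MulAction.fixedBy X (a : MulAut S)) : ℤ) - (Nat.card X : ℤ) : ℤ) : ℂ) := by
      push_cast
      ring
    rw [h1, Blocks.Local.memLocalIdeal_intCast_iff hM]
    exact dvd_sub (Int.natCast_dvd_natCast.2 (dvd_card_fixed htr hd a Q hQ)) (Int.natCast_dvd_natCast.2 hd)

end abstract

section pol

variable {p : ℕ} [hp : Fact p.Prime] {F V : Type*} {G H : Type*} {S : Type u} [Field F] [Fintype F] [AddCommGroup V]
  [Module F V] [FiniteDimensional F V] [Group G] [Group H] [Group S] {Φ : Pol F V} {ρ : G →* (V ≃ₗ[F] V)} {ι : H →* G}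
  {ρ' : H →* (V ≃ₗ[F] V)} {π : H →* S} {w ε K : ℕ}

/-- **`p` divides the number of totally singular `k`-spaces, `k ≤ K`** -/
theorem rowA_of_dvd [Fintype S] (I : PolInst p Φ ρ ι ρ' π w ε K)
    (hall : ∀ a : MulAut S, ∃ M : V ≃+ V, SemiAct Φ M ∧ Induces ρ' π M a) (hw : 2 ≤ w) {k : ℕ} (h1 : 1 ≤ k) (hk : k ≤ K)
    (hd : p ∣ Nat.card (Φ.X k)) : RowA p S := by
  let _ := I.model.mulAction k
  let _ := Cfsg.Agent.H221.CY.autAction I (h1.trans hk) (Cfsg.Agent.H221.CY.three_le I hw) hall k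
  have _ : Nonempty (Φ.X k) := by
    have h2 : 0 < Nat.card (Φ.X k) := CC.pos I.card Finite.one_lt_card (hk.trans I.K_le)
    exact (Nat.card_pos_iff.1 h2).1
  exact rowA_of_swap (X := Φ.X k) (fun s x => Cfsg.Agent.H221.CY.conj_smul I _ _ hall k s x) (polInst_swap I h1 hk) hd
    (fun χ hχ g => I.int hk χ hχ g)

end pol

end Cfsg.Agent.H442.CY
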